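import Groth.Agent.Lib.HTFin27.Bridge
import Mathlib.Algebra.Homology.DerivedCategory.DerivabilityStructureInjectives
import Mathlib.CategoryTheory.Limits.Preserves.Filtered
import Mathlib.RingTheory.Finiteness.Ideal
import Mathlib.Data.Int.Interval

/-!
# Finiteness of cohomology with supports in a specialization-stable set, and annihilators
-/

set_option autoImplicit false
universe u v

open CategoryTheory CategoryTheory.Limits Opposite

attribute [local instance] HasDerivedCategory.standard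

noncomputable section

namespace Groth.Agent.HTFin27

open ExtCechLib

variable {A : Type u} [CommRing A] (T : Set (PrimeSpectrum A))

instance preservesColimit_forget_idealsIn (F : (Dual2.IdealsIn T)ᵒᵖ ⥤ ModuleCat.{u + 1} A) :
    PreservesColimit F (forget (ModuleCat.{u + 1} A)) := by
  haveI : PreservesFilteredColimitsOfSize.{u, u} (forget AddCommGrpCat.{u + 1}) :=
    preservesFilteredColimitsOfSize_shrink.{u, u + 1, u, u + 1} _
  exact inferInstanceAs (PreservesColimit F (forget₂ (ModuleCat.{u + 1} A) AddCommGrpCat.{u + 1} ⋙ forget AddCommGrpCat.{u + 1}))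

variable (K : Dual.D A) (i : ℤ)

/-- The diagram of `HDT`. -/
abbrev hdtF : (Dual2.IdealsIn T)ᵒᵖ ⥤ ModuleCat.{u + 1} A :=
  (localCohomology.ringModIdeals (Dual2.idealsInDiagram T) ⋙
      DerivedCategory.singleFunctor (ModuleCat.{u} A) 0).op ⋙ (linearYoneda A (Dual.D A)).obj (K⟦i⟧)

/-- The structure maps of `HDT`. -/
def κD (j : Dual2.IdealsIn T) :
    ((DerivedCategory.singleFunctor (ModuleCat.{u} A) 0).obj (qT T j) ⟶ K⟦i⟧) →ₗ[A] Dual2.HDT A T K i :=
  (colimit.ι (hdtF T K i) (op j)).hom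

theorem isColimK_κD : IsColimK T i (κD T K i) where
  w _ _ f φ := LinearMap.congr_fun (congrArg ModuleCat.Hom.hom (colimit.w (hdtF T K i) f.op)) φ
  surj v := by
    obtain ⟨⟨j⟩, φ, h⟩ := Concrete.colimit_exists_rep (hdtF T K i) v
    exact ⟨j, φ, h⟩
  zero j φ h := by
    obtain ⟨⟨j'⟩, f, hf⟩ := Concrete.colimit_rep_eq_zero.{u + 1} A (hdtF T K i) (op j) φ h
    exact ⟨j', f.unop, hf⟩

section HT

variable (n : ℕ) (M : ModuleCat.{u} A)

/-- The evaluated diagram of `HT`. -/
abbrev htF : (Dual2.IdealsIn T)ᵒᵖ ⥤ ModuleCat.{u} A :=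
  localCohomology.diagram.{u, u} (Dual2.idealsInDiagram T) n ⋙ (evaluation _ _).obj M

/-- Comparison with the evaluated colimit. -/
def htIso : (localCohomology.ofDiagram.{u, u} (Dual2.idealsInDiagram T) n).obj M ≅ colimit (htF T n M) :=
  colimitObjIsoColimitCompEvaluation _ _

instance preservesColimit_forget_htF (F : (Dual2.IdealsIn T)ᵒᵖ ⥤ ModuleCat.{u} A) :
    PreservesColimit F (forget (ModuleCat.{u} A)) := inferInstance

/-- `Hom(A/J, M[n])` as `Ext`. -/
def homExt (j : Dual2.IdealsIn T) :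
    ((DerivedCategory.singleFunctor (ModuleCat.{u} A) 0).obj (qT T j) ⟶
      ((DerivedCategory.singleFunctor (ModuleCat.{u} A) 0).obj M)⟦(n : ℤ)⟧) ≃ₗ[A]
    (htF T n M).obj (op j) :=
  (({ (Abelian.Ext.homAddEquiv (X := qT T j) (Y := M) (n := n)) with
      map_smul' := fun r x => Abelian.Ext.smul_hom x r } :
        Abelian.Ext (qT T j) M n ≃ₗ[A] ShiftedHom ((DerivedCategory.singleFunctor (ModuleCat.{u} A) 0).obj (qT T j))
          ((DerivedCategory.singleFunctor (ModuleCat.{u} A) 0).obj M) (n : ℤ))).symm.trans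
    (((LocCohLib.extNatIso A n).app (op (qT T j))).app M).toLinearEquiv.symm

/-- The structure maps of `HT`. -/
def κT (j : Dual2.IdealsIn T) :
    ((DerivedCategory.singleFunctor (ModuleCat.{u} A) 0).obj (qT T j) ⟶
      ((DerivedCategory.singleFunctor (ModuleCat.{u} A) 0).obj M)⟦(n : ℤ)⟧) →ₗ[A]
    ((localCohomology.ofDiagram.{u, u} (Dual2.idealsInDiagram T) n).obj M : Type u) :=
  ((htIso T n M).inv.hom ∘ₗ (colimit.ι (htF T n M) (op j)).hom) ∘ₗ (homExt T n M j).toLinearMap

theorem homExt_map {j j' : Dual2.IdealsIn T} (f : j' ⟶ j)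
    (φ : (DerivedCategory.singleFunctor (ModuleCat.{u} A) 0).obj (qT T j) ⟶
      ((DerivedCategory.singleFunctor (ModuleCat.{u} A) 0).obj M)⟦(n : ℤ)⟧) :
    (htF T n M).map f.op (homExt T n M j φ) =
      homExt T n M j' ((DerivedCategory.singleFunctor (ModuleCat.{u} A) 0).map
        ((localCohomology.ringModIdeals (Dual2.idealsInDiagram T)).map f) ≫ φ) := by
  obtain ⟨x, rfl⟩ : ∃ x : Abelian.Ext (qT T j) M n, x.hom = φ := ⟨Abelian.Ext.homAddEquiv.symm φ,
    Abelian.Ext.homAddEquiv.apply_symm_apply φ⟩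
  let g : qT T j' ⟶ qT T j := (localCohomology.ringModIdeals (Dual2.idealsInDiagram T)).map f
  have h1 := NatTrans.congr_app ((LocCohLib.extNatIso A n).inv.naturality g.op) M
  have e1 : homExt T n M j x.hom = ((LocCohLib.extNatIso A n).inv.app (op (qT T j))).app M x := by
    show (((LocCohLib.extNatIso A n).app (op (qT T j))).app M).inv (Abelian.Ext.homAddEquiv.symm x.hom) = _
    rw [← Abelian.Ext.homAddEquiv_apply, AddEquiv.symm_apply_apply]
    rfl
  have e2 : (DerivedCategory.singleFunctor (ModuleCat.{u} A) 0).map g ≫ x.hom =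
      ((Abelian.Ext.mk₀ g).comp x (zero_add n)).hom := by
    rw [Abelian.Ext.comp_hom, Abelian.Ext.mk₀_hom, ShiftedHom.mk₀_comp]
  rw [e1, e2]
  refine (ConcreteCategory.congr_hom h1 x).symm.trans ?_
  show _ = (((LocCohLib.extNatIso A n).app (op (qT T j'))).app M).inv (Abelian.Ext.homAddEquiv.symm _)
  rw [← Abelian.Ext.homAddEquiv_apply, AddEquiv.symm_apply_apply]
  rfl

theorem isColimK_κT : IsColimK T (n : ℤ) (κT T n M) where
  w j j' f φ := by
    show (htIso T n M).inv (colimit.ι (htF T n M) (op j') (homExt T n M j' _)) =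
      (htIso T n M).inv (colimit.ι (htF T n M) (op j) (homExt T n M j φ))
    rw [← homExt_map T n M f φ]
    exact congrArg (htIso T n M).inv (LinearMap.congr_fun (congrArg ModuleCat.Hom.hom (colimit.w (htF T n M) f.op))
      (homExt T n M j φ))
  surj v := by
    obtain ⟨⟨j⟩, z, hz⟩ := Concrete.colimit_exists_rep (htF T n M) ((htIso T n M).hom v)
    refine ⟨j, (homExt T n M j).symm z, ?_⟩
    show (htIso T n M).inv (colimit.ι (htF T n M) (op j) (homExt T n M j _)) = v
    rw [LinearEquiv.apply_symm_apply]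
    refine (congrArg (htIso T n M).inv hz).trans ?_
    exact ConcreteCategory.congr_hom (htIso T n M).hom_inv_id v
  zero j φ h := by
    have h' : colimit.ι (htF T n M) (op j) (homExt T n M j φ) = 0 := by
      refine (ModuleCat.mono_iff_injective (htIso T n M).inv).1 inferInstance ?_
      rw [map_zero]
      exact h
    obtain ⟨⟨j'⟩, f, hf⟩ := Concrete.colimit_rep_eq_zero A (htF T n M) (op j) _ h'
    refine ⟨j', f.unop, (homExt T n M j').injective ?_⟩
    rw [← homExt_map T n M f.unop φ, map_zero]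
    exact hf

end HT

variable {T}

theorem finH_of_finite [IsNoetherianRing A] (W : DRing.Cx A) (j : ℤ) (h : Module.Finite A (W.homology j)) :
    FinH W j := by
  obtain ⟨S, hS⟩ := h.fg_top
  choose l hl using fun s : S => DMod.homologyπ_surjective W j s.1
  refine ⟨Submodule.span A (Set.range fun s : S => W.iCycles j (l s)), Submodule.fg_span (Set.finite_range _),
    Submodule.span_le.2 (by rintro _ ⟨s, rfl⟩; exact DMod.d_iCycles j (j + 1) _), fun x hx => ?_⟩
  obtain ⟨z, rfl⟩ := DMod.exists_cycle (K := W) (k := j + 1) (by simp) x hx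
  have hmem : W.homologyπ j z ∈ Submodule.span A (S : Set (W.homology j)) := by rw [hS]; trivial
  rw [Submodule.mem_span_finset'] at hmem
  obtain ⟨c, hc⟩ := hmem
  let m := ∑ s : S, c s • l s
  have h0 : W.homologyπ j (z - m) = 0 := by
    rw [map_sub, sub_eq_zero]
    simp only [m, map_sum, map_smul, hl]
    exact hc.symm
  obtain ⟨y, hy⟩ := (DMod.homologyπ_eq_zero_iff (K := W) (i := j - 1) (by simp) _).1 h0
  rw [show W.iCycles j z = W.iCycles j m + W.iCycles j (z - m) by rw [← map_add, add_sub_cancel]]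
  refine Submodule.add_mem_sup ?_ ((mem_Bd W (by omega : j - 1 + 1 = j)).2 ⟨y, hy⟩)
  simp only [m, map_sum, map_smul]
  exact Submodule.sum_smul_mem _ _ fun s _ => Submodule.subset_span ⟨s, rfl⟩

theorem exists_res_bounded (K : Dual.D A) (a : ℤ) (hKa : ∀ i : ℤ, i < a → Subsingleton (Dual.HD A K i)) :
    ∃ W : DRing.Cx A, W.IsStrictlyGE a ∧ (∀ i, Injective (W.X i)) ∧ W.IsKInjective ∧
      Nonempty (DerivedCategory.Q.obj W ≅ K) := by
  have : K.IsGE a := (DMod.isGE_iff _ a).2 hKa
  obtain ⟨L, hL, ⟨e⟩⟩ := DerivedCategory.exists_iso_Q_obj_of_isGE K a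
  obtain ⟨W, f, hf, hinj, hW⟩ := CochainComplex.Plus.modelCategoryQuillen.exists_quasiIso_injective L a
  exact ⟨W, inferInstance, inferInstance, CochainComplex.isKInjective_of_injective W a,
    ⟨(asIso (DerivedCategory.Q.map f)).symm ≪≫ e.symm⟩⟩

/-- Finiteness up to degree `n` is equivalent to annihilation, for any model of cohomology with supports. -/
theorem finite_iff_annihilated [IsNoetherianRing A] (K : Dual.D A) (a : ℤ)
    (hKa : ∀ i : ℤ, i < a → Subsingleton (Dual.HD A K i)) (hK : ∀ i : ℤ, Module.Finite A (Dual.HD A K i))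
    {V : ℤ → Type v} [∀ i, AddCommGroup (V i)] [∀ i, Module A (V i)] (S : Set ℤ)
    (κ : ∀ i, ∀ j : Dual2.IdealsIn T,
      ((DerivedCategory.singleFunctor (ModuleCat.{u} A) 0).obj (qT T j) ⟶ K⟦i⟧) →ₗ[A] V i)
    (hκ : ∀ i ∈ S, IsColimK T i (κ i)) (n : ℤ) (hlow : ∀ i, i ≤ n → i ∉ S → i < a) :
    (∀ i, i ≤ n → i ∈ S → Module.Finite A (V i)) ↔
      ∃ J : Ideal A, Ok T J ∧ ∀ i, i ≤ n → i ∈ S → ∀ x ∈ J, ∀ y : V i, x • y = 0 := by
  classical
  obtain ⟨W, hW, hWi, hWK, ⟨e⟩⟩ := exists_res_bounded K a hKa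
  have hWm : ∀ i, Module.Injective A (W.X i) := fun i => (Module.injective_iff_injective_object A _).2 (hWi i)
  have hzero : ∀ i, i < a → ∀ x : W.X i, x = 0 := fun i hi x =>
    (ModuleCat.subsingleton_of_isZero (W.isZero_of_isStrictlyGE a i hi)).elim _ _
  constructor
  · intro h
    have h1 : ∀ i : ℤ, ∃ J : Ideal A, Ok T J ∧ (i ≤ n → AnnT T W J i) := fun i => by
      by_cases hi : i ≤ n ∧ a ≤ i
      · obtain ⟨N, ⟨G, hG⟩, hNc, hNs⟩ := (finite_iff T W e i (hκ i (by
          by_contra hS; have := hlow i hi.1 hS; omega))).1 (h i hi.1 (by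
          by_contra hS; have := hlow i hi.1 hS; omega))
        choose J hJ hJk using fun g : G => (hNc (hG ▸ Submodule.subset_span g.2) : g.1 ∈ TCy T W i).1
        refine ⟨G.attach.inf J, Finset.inf_induction ok_top (fun x hx y hy => hx.inf hy) fun g _ => hJ g,
          fun _ x hx c hc => ?_⟩
        obtain ⟨m, hm, r, hr, hmr⟩ := Submodule.mem_sup.1 (hNs hx)
        have hcm : c • m = 0 := by
          rw [← hG] at hm
          refine LinearMap.mem_ker.1 ((Submodule.span_le.2 fun g hg => ?_ : _ ≤ LinearMap.ker (LinearMap.lsmul A (W.X i) c)) hm)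
          exact LinearMap.mem_ker.2 (hJk ⟨g, hg⟩ c ((Finset.inf_le (G.mem_attach ⟨g, hg⟩) : G.attach.inf J ≤ _) hc))
        rw [← hmr, smul_add, hcm, zero_add]
        exact Submodule.smul_mem _ c hr
      · refine ⟨⊤, ok_top, fun hin x _ c _ => ?_⟩
        rw [hzero i (by by_contra h; exact hi ⟨hin, by omega⟩) (c • x)]
        exact zero_mem _
    choose J hJ hJA using h1
    refine ⟨(Finset.Icc a n).inf J, Finset.inf_induction ok_top (fun x hx y hy => hx.inf hy) fun i _ => hJ i,
      fun i hi hS x hx y => ?_⟩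
    refine (annT_iff T W e i (hκ i hS) _).1 (fun z hz c hc => ?_) x hx y
    by_cases hai : a ≤ i
    · exact hJA i hi z hz c ((Finset.inf_le (Finset.mem_Icc.2 ⟨hai, hi⟩) : (Finset.Icc a n).inf J ≤ J i) hc)
    · rw [hzero i (by omega) (c • z)]; exact zero_mem _
  · rintro ⟨J, hJ, hJk⟩
    intro i hi hS
    obtain ⟨G, hG⟩ := IsNoetherian.noetherian J
    have hgens : Ideal.span {y : A | y ∈ G.toList} = J := by rw [← hG]; congr 1; ext; simp
    refine (finite_iff T W e i (hκ i hS)).2 (finT_of_annT T J hJ G.toList hgens G.toList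
      (fun g hg => hgens ▸ Ideal.subset_span hg) W a hWm (fun m => ?_) (fun g hg => Or.inl hg) n 1 one_pos
      (fun m hm => ?_) i hi)
    · obtain ⟨l⟩ := RGamma27.HD_iso (K := W) m
      let l' : Dual.HD A (DerivedCategory.Q.obj W) m ≃ₗ[A] Dual.HD A K m :=
        ((DerivedCategory.homologyFunctor (ModuleCat.{u} A) m).mapIso e).toLinearEquiv
      have := hK m
      exact finH_of_finite W m (Module.Finite.equiv (l'.symm.trans l))
    · rw [pow_one]
      by_cases hmS : m ∈ S
      · exact (annT_iff T W e m (hκ m hmS) J).2 (hJk m hm hmS)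
      · intro z _ c _
        rw [hzero m (hlow m hm hmS) (c • z)]
        exact zero_mem _

end Groth.Agent.HTFin27
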