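import Groth.Agent.Lib.RGamma27.Adj
import Groth.Agent.Lib.ExtCech.Cocone
import Groth.Agent.Lib.InjHull.Torsion
import Groth.Agent.Lib.KInj.Derived
import Groth.Agent.Lib.DMod.Homology
import Mathlib.RingTheory.Finiteness.Basic
import Mathlib.RingTheory.Noetherian.Basic

/-!
# Finiteness of cohomology with supports in a set of primes, on complexes

`T`-torsion cycles modulo boundaries of `T`-torsion elements, for a bounded below complex of injectives with
finite cohomology: finite up to degree `n` as soon as an ideal `J` with `V(J) ⊆ T` annihilates them.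
-/

set_option autoImplicit false
universe u

open CategoryTheory CategoryTheory.Limits CochainComplex

attribute [local instance] HasDerivedCategory.standard

noncomputable section

namespace Groth.Agent.HTFin27

open ExtCechLib

variable {A : Type u} [CommRing A] (T : Set (PrimeSpectrum A))

/-- The ideals with zero locus in `T`. -/
def Ok (J : Ideal A) : Prop := PrimeSpectrum.zeroLocus (J : Set A) ⊆ T

variable {T}

theorem Ok.mul {J J' : Ideal A} (h : Ok T J) (h' : Ok T J') : Ok T (J * J') := by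
  rw [Ok, PrimeSpectrum.zeroLocus_mul]
  exact Set.union_subset h h'

theorem Ok.inf {J J' : Ideal A} (h : Ok T J) (h' : Ok T J') : Ok T (J ⊓ J') := by
  rw [Ok, PrimeSpectrum.zeroLocus_inf]
  exact Set.union_subset h h'

theorem ok_top : Ok T (⊤ : Ideal A) := by
  rw [Ok, Submodule.top_coe, PrimeSpectrum.zeroLocus_univ]
  exact Set.empty_subset _

theorem Ok.pow {J : Ideal A} (h : Ok T J) : ∀ n : ℕ, Ok T (J ^ n)
  | 0 => by rw [pow_zero, Ideal.one_eq_top]; exact ok_top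
  | n + 1 => by rw [pow_succ]; exact (Ok.pow h n).mul h

variable (T)

/-- Elements killed by an ideal with zero locus in `T`. -/
def TTors (M : Type u) [AddCommGroup M] [Module A M] : Submodule A M where
  carrier := {x | ∃ J : Ideal A, Ok T J ∧ ∀ a ∈ J, a • x = 0}
  zero_mem' := ⟨⊤, ok_top, fun a _ => smul_zero a⟩
  add_mem' := by
    rintro x y ⟨J, hJ, hx⟩ ⟨J', hJ', hy⟩
    exact ⟨J ⊓ J', hJ.inf hJ', fun a ha => by rw [smul_add, hx a ha.1, hy a ha.2, add_zero]⟩
  smul_mem' := by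
    rintro c x ⟨J, hJ, hx⟩
    exact ⟨J, hJ, fun a ha => by rw [smul_comm, hx a ha, smul_zero]⟩

theorem TTors.map {M N : Type u} [AddCommGroup M] [Module A M] [AddCommGroup N] [Module A N]
    {x : M} (hx : x ∈ TTors T M) (f : M →ₗ[A] N) : f x ∈ TTors T N := by
  obtain ⟨J, hJ, h⟩ := hx
  exact ⟨J, hJ, fun a ha => by rw [← map_smul, h a ha, map_zero]⟩

variable (W : DRing.Cx A)

/-- `T`-torsion cycles. -/
def TCy (i : ℤ) : Submodule A (W.X i) := TTors T (W.X i) ⊓ Cy W i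

/-- Boundaries of `T`-torsion elements. -/
def TBd (i : ℤ) : Submodule A (W.X i) := (TTors T (W.X (i - 1))).map (dd W (i - 1) i)

theorem mem_TBd {i j : ℤ} (h : j + 1 = i) {x : W.X i} :
    x ∈ TBd T W i ↔ ∃ v ∈ TTors T (W.X j), dd W j i v = x := by
  obtain rfl : j = i - 1 := by omega
  exact Submodule.mem_map

/-- `J` annihilates the cohomology with supports in degree `i`. -/
def AnnT (J : Ideal A) (i : ℤ) : Prop := ∀ e ∈ TCy T W i, ∀ a ∈ J, a • e ∈ TBd T W i

/-- The cohomology with supports is finite in degree `i`. -/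
def FinT (i : ℤ) : Prop := ∃ N : Submodule A (W.X i), N.FG ∧ N ≤ TCy T W i ∧ TCy T W i ≤ N ⊔ TBd T W i

/-- The cohomology is finite in degree `i`. -/
def FinH (i : ℤ) : Prop := ∃ N : Submodule A (W.X i), N.FG ∧ N ≤ Cy W i ∧ Cy W i ≤ N ⊔ Bd W i

/-- The cohomology is torsion for `g`. -/
def Kill (g : A) : Prop := ∀ i : ℤ, ∀ e ∈ Cy W i, g ∈ (annBd W e).radical

/-- The cone of multiplication by `x`. -/
abbrev cn (x : A) : DRing.Cx A := mappingCone (x • 𝟙 W)

theorem xf (x : A) (m : ℤ) (a : W.X m) : ((x • 𝟙 W : W ⟶ W).f m).hom a = x • a := rfl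

variable {W} {x : A}

theorem mem_Cy_cn {m m' m'' : ℤ} (h : m + 1 = m') (h' : m' + 1 = m'') {z : (cn W x).X m} :
    z ∈ Cy (cn W x) m ↔ dd W m' m'' (cA _ m m' h z) = 0 ∧ x • cA _ m m' h z + dd W m m' (cB _ m z) = 0 := by
  rw [mem_Cy_cone (x • 𝟙 W) h h']
  rfl

/-- Constructing boundaries in the cone. -/
theorem bd_cn {i m m' : ℤ} (hi : i + 1 = m) (h : m + 1 = m') (z : (cn W x).X m) (a' : W.X m)
    (ha : dd W m m' a' = cA _ m m' h z) (e : W.X i) (he : cB _ m z + x • a' = dd W i m e) :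
    dd (cn W x) i m (cMk (x • 𝟙 W) i m hi (-a') e) = z := by
  refine cone_ext (x • 𝟙 W) h ?_ ?_
  · rw [cA_d (x • 𝟙 W) i m m' hi h, cA_cMk, map_neg, ha, neg_neg]
  · rw [cB_d (x • 𝟙 W) i m hi, cA_cMk, cB_cMk, xf, ← he, smul_neg]
    abel

theorem tt_cMk {i m : ℤ} (hi : i + 1 = m) {a : W.X m} {b : W.X i} (ha : a ∈ TTors T _) (hb : b ∈ TTors T _) :
    cMk (x • 𝟙 W) i m hi a b ∈ TTors T _ :=
  add_mem (TTors.map T ha ((mappingCone.inl (x • 𝟙 W)).v m i (by omega)).hom)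
    (TTors.map T hb ((mappingCone.inr (x • 𝟙 W)).f i).hom)

theorem annT_cn {J : Ideal A} {m : ℤ} (h1 : AnnT T W J m) (h2 : AnnT T W J (m + 1)) :
    AnnT T (cn W x) (J * J) m := by
  intro z hz c hc
  obtain ⟨hzt, hzc⟩ := hz
  obtain ⟨ha, hb⟩ := (mem_Cy_cn (x := x) (m := m) rfl rfl).1 hzc
  suffices ∀ c1 ∈ J, ∀ c2 ∈ J, (c2 * c1) • z ∈ TBd T (cn W x) m by
    refine Submodule.mul_induction_on hc (fun c2 hc2 c1 hc1 => this c1 hc1 c2 hc2) fun p q hp hq => ?_
    rw [add_smul]; exact add_mem hp hq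
  intro c1 hc1 c2 hc2
  obtain ⟨a', hat, ha'⟩ := (mem_TBd T W (j := m) rfl).1
    (h2 _ ⟨TTors.map T hzt (cA _ m (m + 1) rfl), (mem_Cy W rfl).2 ha⟩ c1 hc1)
  have hw : c1 • cB _ m z + x • a' ∈ TCy T W m := by
    refine ⟨add_mem (Submodule.smul_mem _ _ (TTors.map T hzt (cB _ m))) (Submodule.smul_mem _ _ hat),
      (mem_Cy W rfl).2 ?_⟩
    rw [map_add, map_smul, map_smul, ha', smul_comm, ← smul_add, add_comm (dd W m (m + 1) (cB (x • 𝟙 W) m z)), hb, smul_zero]
  obtain ⟨e, het, he⟩ := (mem_TBd T W (j := m - 1) (by omega)).1 (h1 _ hw c2 hc2)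
  refine (mem_TBd T (cn W x) (j := m - 1) (by omega)).2
    ⟨_, tt_cMk T (by omega) (neg_mem (Submodule.smul_mem _ c2 hat)) het,
      bd_cn (x := x) (m' := m + 1) (by omega) rfl ((c2 * c1) • z) (c2 • a') ?_ e ?_⟩
  · rw [map_smul, map_smul, ha', mul_smul]
  · rw [map_smul, mul_smul, he, smul_add, smul_comm x c2]

theorem kill_cn {g : A} (h : Kill W g) : Kill (cn W x) g := by
  intro m z hz
  obtain ⟨ha, hb⟩ := (mem_Cy_cn (x := x) (m := m) rfl rfl).1 hz
  obtain ⟨k, hk⟩ := h (m + 1) _ ((mem_Cy W rfl).2 ha)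
  obtain ⟨a', ha'⟩ := (mem_Bd W (i := m) rfl).1 ((mem_annBd W).1 hk)
  have hw : g ^ k • cB _ m z + x • a' ∈ Cy W m := by
    refine (mem_Cy W rfl).2 ?_
    rw [map_add, map_smul, map_smul, ha', smul_comm, ← smul_add, add_comm (dd W m (m + 1) (cB (x • 𝟙 W) m z)), hb, smul_zero]
  obtain ⟨l, hl⟩ := h m _ hw
  obtain ⟨e, he⟩ := (mem_Bd W (i := m - 1) (by omega)).1 ((mem_annBd W).1 hl)
  refine ⟨l + k, (mem_annBd _).2 ((mem_Bd _ (i := m - 1) (by omega)).2
    ⟨_, bd_cn (x := x) (m' := m + 1) (by omega) rfl (g ^ (l + k) • z) (g ^ l • a') ?_ e ?_⟩)⟩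
  · rw [map_smul, map_smul, ha', pow_add, mul_smul]
  · rw [map_smul, pow_add, mul_smul, he, smul_add, smul_comm x (g ^ l)]

theorem kill_self : Kill (cn W x) x := by
  intro m z hz
  obtain ⟨ha, hb⟩ := (mem_Cy_cn (x := x) (m := m) rfl rfl).1 hz
  refine ⟨1, (mem_annBd _).2 ((mem_Bd _ (i := m - 1) (by omega)).2
    ⟨_, bd_cn (x := x) (m' := m + 1) (by omega) rfl (x ^ 1 • z) (-cB _ m z) ?_ 0 ?_⟩)⟩
  · rw [map_neg, pow_one, map_smul, neg_eq_iff_add_eq_zero]
    exact (add_comm _ _).trans hb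
  · rw [map_zero, map_smul, pow_one, smul_neg, add_neg_cancel]

variable [IsNoetherianRing A]

theorem finH_cn {m : ℤ} (h1 : FinH W (m + 1)) (h2 : FinH W m) : FinH (cn W x) m := by
  classical
  obtain ⟨N1, hN1, hN1c, hN1s⟩ := h1
  obtain ⟨N0, hN0, hN0c, hN0s⟩ := h2
  let N1' : Submodule A (W.X (m + 1)) := N1 ⊓ (Bd W (m + 1)).comap (LinearMap.lsmul A _ x)
  have : IsNoetherian A N1 := isNoetherian_of_fg_of_noetherian _ hN1
  have hN1' : N1'.FG := by
    have := IsNoetherian.noetherian (R := A) (M := N1) (N1'.comap N1.subtype)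
    have h := this.map N1.subtype
    rwa [Submodule.map_comap_subtype, inf_eq_right.2 inf_le_left] at h
  obtain ⟨S, hS⟩ := hN1'
  have hlift : ∀ s ∈ S, ∃ w : (cn W x).X m, w ∈ Cy (cn W x) m ∧ cA _ m (m + 1) rfl w = s := fun s hs => by
    have hs' : s ∈ N1' := hS ▸ Submodule.subset_span hs
    obtain ⟨hs1, hs2⟩ := hs'
    obtain ⟨b, hb⟩ := (mem_Bd W (i := m) rfl).1 hs2
    refine ⟨cMk (x • 𝟙 W) m (m + 1) rfl s (-b), (mem_Cy_cn (x := x) rfl rfl).2 ⟨?_, ?_⟩, cA_cMk _ _ _ _ _ _⟩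
    · rw [cA_cMk]; exact (mem_Cy W rfl).1 (hN1c hs1)
    · rw [cA_cMk, cB_cMk, map_neg, hb]; exact add_neg_cancel _
  choose w hwc hwA using hlift
  let inr := ((mappingCone.inr (x • 𝟙 W)).f m).hom
  let N : Submodule A ((cn W x).X m) := Submodule.span A (Set.range fun s : S => w s.1 s.2) ⊔ N0.map inr
  have hr : ∀ b, cA (x • 𝟙 W) m (m + 1) rfl (inr b) = 0 ∧ cB (x • 𝟙 W) m (inr b) = b := fun b => by
    have e : inr b = cMk (x • 𝟙 W) m (m + 1) rfl 0 b := by simp [cMk, inr]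
    exact ⟨by rw [e, cA_cMk], by rw [e, cB_cMk]⟩
  refine ⟨N, Submodule.FG.sup (Submodule.fg_span (Set.finite_range _)) (hN0.map _), ?_, fun z hz => ?_⟩
  · refine sup_le (Submodule.span_le.2 (by rintro _ ⟨s, rfl⟩; exact hwc s.1 s.2)) ?_
    rintro _ ⟨b, hb, rfl⟩
    exact (mem_Cy_cn (x := x) rfl rfl).2 ⟨by rw [(hr b).1, map_zero], by rw [(hr b).1, (hr b).2, smul_zero, zero_add]; exact (mem_Cy W rfl).1 (hN0c hb)⟩
  · obtain ⟨ha, hb⟩ := (mem_Cy_cn (x := x) (m := m) rfl rfl).1 hz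
    obtain ⟨n, hn, r, hr', hnr⟩ := Submodule.mem_sup.1 (hN1s ((mem_Cy W rfl).2 ha))
    obtain ⟨a', rfl⟩ := (mem_Bd W (i := m) rfl).1 hr'
    have hn' : n ∈ N1' := ⟨hn, (mem_Bd W (i := m) rfl).2 ⟨-(cB _ m z + x • a'), by
      rw [map_neg, map_add, map_smul]
      show _ = x • n
      rw [← hnr] at hb
      rw [smul_add] at hb
      exact neg_eq_of_add_eq_zero_right (by rw [← hb]; abel)⟩⟩
    rw [← hS, Submodule.mem_span_finset'] at hn'
    obtain ⟨c, hc⟩ := hn'
    let z1 : (cn W x).X m := ∑ s : S, c s • w s.1 s.2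
    have hz1 : z1 ∈ N := Submodule.mem_sup_left (Submodule.sum_smul_mem _ _ fun s _ => Submodule.subset_span ⟨s, rfl⟩)
    have hz1c : z1 ∈ Cy (cn W x) m := Submodule.sum_smul_mem _ _ fun s _ => hwc s.1 s.2
    have hA1 : cA _ m (m + 1) rfl z1 = n := by
      simp only [z1, map_sum, map_smul, hwA]; exact hc
    have hd : dd W m (m + 1) a' = cA _ m (m + 1) rfl (z - z1) := by
      rw [map_sub, hA1, ← hnr, add_sub_cancel_left]
    have hb2 := ((mem_Cy_cn (x := x) (m := m) rfl rfl).1 (sub_mem hz hz1c)).2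
    obtain ⟨n0, hn0, r0, hr0, h0⟩ := Submodule.mem_sup.1 (hN0s (x := cB _ m (z - z1) + x • a') ((mem_Cy W rfl).2 (by
      rw [map_add, map_smul, hd]; exact (add_comm _ _).trans hb2)))
    obtain ⟨e, rfl⟩ := (mem_Bd W (i := m - 1) (by omega)).1 hr0
    have hB : z - z1 - inr n0 ∈ Bd (cn W x) m :=
      (mem_Bd _ (i := m - 1) (by omega)).2 ⟨_, bd_cn (x := x) (m' := m + 1) (by omega) rfl (z - z1 - inr n0) a'
        (by rw [map_sub _ (z - z1), (hr n0).1, sub_zero, hd]) e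
        (by rw [map_sub _ (z - z1), (hr n0).2, sub_add_eq_add_sub, ← h0, add_sub_cancel_left])⟩
    have : z = z1 + inr n0 + (z - z1 - inr n0) := by abel
    rw [this]
    exact Submodule.add_mem_sup (add_mem hz1 (Submodule.mem_sup_right ⟨n0, hn0, rfl⟩)) hB

omit [IsNoetherianRing A] in
theorem finT_of_cn {J : Ideal A} {i : ℤ} (hx : x ∈ J) (h : AnnT T W J i) (hc : FinT T (cn W x) (i - 1)) :
    FinT T W i := by
  obtain ⟨N, hN, hNc, hNs⟩ := hc
  have hi : i - 1 + 1 = i := by omega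
  let p := cA (x • 𝟙 W) (i - 1) i hi
  refine ⟨N.map p, hN.map _, ?_, fun e he => ?_⟩
  · rintro _ ⟨w, hw, rfl⟩
    exact ⟨TTors.map T (hNc hw).1 p, (mem_Cy W rfl).2 ((mem_Cy_cn (x := x) hi rfl).1 (hNc hw).2).1⟩
  · obtain ⟨f, hft, hf⟩ := (mem_TBd T W hi).1 (h e he x hx)
    have hz : cMk (x • 𝟙 W) (i - 1) i hi e (-f) ∈ TCy T (cn W x) (i - 1) := by
      refine ⟨tt_cMk T hi he.1 (neg_mem hft), (mem_Cy_cn (x := x) hi rfl).2 ⟨?_, ?_⟩⟩
      · rw [cA_cMk]; exact (mem_Cy W rfl).1 he.2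
      · rw [cA_cMk, cB_cMk, map_neg, hf, add_neg_cancel]
    obtain ⟨w, hw, r, hr, hwr⟩ := Submodule.mem_sup.1 (hNs hz)
    obtain ⟨v, hvt, rfl⟩ := (mem_TBd T (cn W x) (j := i - 1 - 1) (by omega)).1 hr
    have h1 : p w + p (dd (cn W x) (i - 1 - 1) (i - 1) v) = e := by
      rw [← map_add, hwr]; exact cA_cMk _ _ _ _ _ _
    rw [← h1]
    refine Submodule.add_mem_sup ⟨w, hw, rfl⟩ ((mem_TBd T W hi).2
      ⟨-cA (x • 𝟙 W) (i - 1 - 1) (i - 1) (by omega) v, neg_mem (TTors.map T hvt _), ?_⟩)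
    rw [map_neg]
    exact (cA_d (x • 𝟙 W) (i - 1 - 1) (i - 1) i (by omega) hi v).symm

variable (W)

theorem finT_of_kill (a : ℤ) [W.IsStrictlyGE a] (hW : ∀ i, Module.Injective A (W.X i)) {J : Ideal A} (hJ : Ok T J)
    (gens : List A) (hgens : Ideal.span {y : A | y ∈ gens} = J) (hk : ∀ g ∈ gens, Kill W g)
    (i : ℤ) (hH : FinH W i) : FinT T W i := by
  have hWi : ∀ n, Injective (W.X n) := fun n => (Module.injective_iff_injective_object A _).1 (hW n)
  have hWK : W.IsKInjective := CochainComplex.isKInjective_of_injective W a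
  let G := RGamma27.gam J W
  have hq : QuasiIso (RGamma27.incl J W) := RGamma27.quasiIso_incl (IsNoetherian.noetherian J) W
    (fun j => RGamma27.flasque_of_injective (hW j)) fun j x => by
      have h := (RGamma27.tors_iff gens).1 (fun g hg =>
        (exists_smul_eq_zero_iff W j g).2 (hk g hg j) x)
      rw [hgens] at h
      exact h
  have hGK : G.IsKInjective := by
    have : ∀ n, Injective (G.X n) := fun n => (Module.injective_iff_injective_object A _).1 (by
      have e : InjHullLib.powTors J (W.X n) = DRing.torsionSub J (W.X n) :=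
        Submodule.ext fun x => InjHullLib.mem_powTors_iff
      exact e ▸ InjHullLib.injective_powTors (hW n) J)
    have : G.IsStrictlyGE a := by
      rw [CochainComplex.isStrictlyGE_iff]
      exact fun n hn => Functor.map_isZero (DRing.gammaI J) (W.isZero_of_isStrictlyGE a n hn)
    exact CochainComplex.isKInjective_of_injective G a
  have hQ : IsIso (DerivedCategory.Q.map (RGamma27.incl J W)) :=
    (DerivedCategory.isIso_Q_map_iff_quasiIso _ _).2 hq
  obtain ⟨ρ, hρ⟩ := KInjLib.exists_map_eq (K := W) (I := G) (inv (DerivedCategory.Q.map (RGamma27.incl J W)))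
  obtain ⟨H⟩ := (KInjLib.map_eq_iff (ρ ≫ RGamma27.incl J W) (𝟙 W)).1 (by
    rw [Functor.map_comp, hρ, IsIso.inv_hom_id, CategoryTheory.Functor.map_id])
  let q : ∀ n, W.X n →ₗ[A] W.X n := fun n => ((ρ ≫ RGamma27.incl J W).f n).hom
  have hqd : ∀ (n m : ℤ) (y : W.X n), q m (dd W n m y) = dd W n m (q n y) := fun n m y =>
    ConcreteCategory.congr_hom ((ρ ≫ RGamma27.incl J W).comm n m).symm y
  have hqt : ∀ (n : ℤ) (y : W.X n), q n y ∈ TTors T (W.X n) := fun n y => by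
    obtain ⟨k, hk'⟩ := ((ρ.f n).hom y : DRing.torsionSub J (W.X n)).2
    exact ⟨J ^ k, hJ.pow k, fun a ha => hk' a ha⟩
  obtain ⟨N, hN, hNc, hNs⟩ := hH
  refine ⟨N.map (q i), hN.map _, ?_, fun e he => ?_⟩
  · rintro _ ⟨n, hn, rfl⟩
    exact ⟨hqt i n, (mem_Cy W rfl).2 (by rw [← hqd, (mem_Cy W rfl).1 (hNc hn), map_zero])⟩
  · obtain ⟨n, hn, r, hr, hnr⟩ := Submodule.mem_sup.1 (hNs he.2)
    obtain ⟨v, rfl⟩ := (mem_Bd W (i := i - 1) (by omega)).1 hr
    have hh := ConcreteCategory.congr_hom (H.comm i) e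
    rw [dNext_eq H.hom (show (ComplexShape.up ℤ).Rel i (i + 1) from rfl),
      prevD_eq H.hom (show (ComplexShape.up ℤ).Rel (i - 1) i from (by simp))] at hh
    have hh' : q i e = dd W (i - 1) i ((H.hom i (i - 1)).hom e) + e := by
      refine hh.trans ?_
      show (H.hom (i + 1) i).hom (dd W i (i + 1) e) + dd W (i - 1) i ((H.hom i (i - 1)).hom e) + e = _
      rw [(mem_Cy W rfl).1 he.2, map_zero, zero_add]
    rw [show e = q i n + (dd W (i - 1) i (q (i - 1) v) - dd W (i - 1) i ((H.hom i (i - 1)).hom e)) by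
      rw [← hqd, ← add_sub_assoc, ← map_add, hnr, hh', add_sub_cancel_left]]
    refine Submodule.add_mem_sup ⟨n, hn, rfl⟩ ?_
    rw [← map_sub]
    exact ⟨_, sub_mem (hqt _ v) (TTors.map T he.1 _), rfl⟩

theorem finT_of_annT (J : Ideal A) (hJ : Ok T J) (gens : List A) (hgens : Ideal.span {y : A | y ∈ gens} = J) :
    ∀ (rem : List A), (∀ g ∈ rem, g ∈ J) → ∀ (W : DRing.Cx A) (a : ℤ) [W.IsStrictlyGE a],
      (∀ i, Module.Injective A (W.X i)) → (∀ i, FinH W i) → (∀ g ∈ gens, g ∈ rem ∨ Kill W g) →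
      ∀ (n : ℤ) (p : ℕ), 0 < p → (∀ i, i ≤ n → AnnT T W (J ^ p) i) → ∀ i, i ≤ n → FinT T W i
  | [], _, W, a, _, hW, hH, hk, _, _, _, _, i, _ =>
    finT_of_kill T W a hW hJ gens hgens (fun g hg => (hk g hg).resolve_left List.not_mem_nil) i (hH i)
  | y :: rem, hrem, W, a, _, hW, hH, hk, n, p, hp, hA, i, hi => by
    let C := cn W (y ^ p)
    have : C.IsStrictlyGE (a - 1) := by
      rw [CochainComplex.isStrictlyGE_iff]
      intro m hm
      refine (DMod.isZero_iff_subsingleton _).2 ?_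
      have h1 := ModuleCat.subsingleton_of_isZero (W.isZero_of_isStrictlyGE a (m + 1) (by omega))
      have h2 := ModuleCat.subsingleton_of_isZero (W.isZero_of_isStrictlyGE a m (by omega))
      exact (DMod.coneXEquiv (y ^ p • 𝟙 W) m).toEquiv.subsingleton
    have hC : ∀ m, Module.Injective A (C.X m) := fun m => by
      have h1 : Injective (W.X (m + 1)) := (Module.injective_iff_injective_object A _).1 (hW _)
      have h2 : Injective (W.X m) := (Module.injective_iff_injective_object A _).1 (hW _)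
      exact (Module.injective_iff_injective_object A _).2
        (Injective.of_iso (HomologicalComplex.homotopyCofiber.XIsoBiprod (y ^ p • 𝟙 W) m (m + 1) rfl).symm inferInstance)
    have hkC : ∀ g ∈ gens, g ∈ rem ∨ Kill C g := fun g hg => by
      rcases hk g hg with h | h
      · rcases List.mem_cons.1 h with rfl | h
        · refine Or.inr fun m e he => ?_
          obtain ⟨k, hk'⟩ := kill_self (W := W) (x := g ^ p) m e he
          exact ⟨p * k, by rwa [pow_mul]⟩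
        · exact Or.inl h
      · exact Or.inr (kill_cn h)
    have hih := finT_of_annT J hJ gens hgens rem (fun g hg => hrem g (List.mem_cons_of_mem y hg)) C (a - 1) hC
      (fun m => finH_cn (hH (m + 1)) (hH m)) hkC (n - 1) (p + p) (by omega)
      (fun m hm => by rw [pow_add]; exact annT_cn T (hA m (by omega)) (hA (m + 1) (by omega))) (i - 1) (by omega)
    exact finT_of_cn T (Ideal.pow_mem_pow (hrem y List.mem_cons_self) p) (hA i hi) hih

end Groth.Agent.HTFin27
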