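import Groth.Agent.Lib.HTFin27.Complex
import Groth.Agent.Lib.RGamma27.ExtColim
import Groth.Agent.Lib.LocCoh.Basic
import Mathlib.Algebra.Homology.DerivedCategory.Ext.Linear

/-!
# Cohomology with supports in `T` from torsion cycles
-/

set_option autoImplicit false
universe u v

open CategoryTheory CategoryTheory.Limits Opposite

attribute [local instance] HasDerivedCategory.standard

noncomputable section

namespace Groth.Agent.HTFin27

open ExtCechLib RGamma27

variable {A : Type u} [CommRing A] (T : Set (PrimeSpectrum A))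

/-- The index of an ideal. -/
def mkI (J : Ideal A) (h : Ok T J) : Dual2.IdealsIn T := ⟨J, h⟩

/-- The transition of a smaller ideal. -/
def leI {j j' : Dual2.IdealsIn T} (h : j.obj ≤ j'.obj) : j ⟶ j' := ObjectProperty.homMk (homOfLE h)

instance nonempty_idealsIn : Nonempty (Dual2.IdealsIn T) := ⟨mkI T ⊤ ok_top⟩

instance isCofiltered_idealsIn : IsCofiltered (Dual2.IdealsIn T) where
  cone_objs j j' := ⟨mkI T (j.obj ⊓ j'.obj) (Ok.inf j.property j'.property),
    leI T inf_le_left, leI T inf_le_right, trivial⟩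
  cone_maps j j' f g := ⟨j, 𝟙 _, ObjectProperty.hom_ext _ (Subsingleton.elim _ _)⟩

/-- `A ⧸ J`. -/
abbrev qT (j : Dual2.IdealsIn T) : ModuleCat.{u} A :=
  (localCohomology.ringModIdeals (Dual2.idealsInDiagram T)).obj j

/-- The class of one. -/
def oneT (j : Dual2.IdealsIn T) : qT T j := (Submodule.Quotient.mk (1 : A) : A ⧸ j.obj)

theorem smul_oneT (j : Dual2.IdealsIn T) {a : A} (ha : a ∈ j.obj) : a • oneT T j = 0 := by
  refine Eq.trans ?_ ((Submodule.Quotient.mk_eq_zero _).2 ha)
  exact congrArg (Submodule.Quotient.mk (p := j.obj)) (mul_one a)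

/-- The map `A ⧸ J → M` sending one to `x`. -/
def evT (j : Dual2.IdealsIn T) {M : ModuleCat.{u} A} (x : M) (hx : ∀ a ∈ j.obj, a • x = 0) : qT T j ⟶ M :=
  ModuleCat.ofHom (Submodule.liftQ j.obj (LinearMap.toSpanSingleton A M x) fun a ha => hx a ha)

theorem evT_one (j : Dual2.IdealsIn T) {M : ModuleCat.{u} A} (x : M) (hx : ∀ a ∈ j.obj, a • x = 0) :
    evT T j x hx (oneT T j) = x := one_smul A x

theorem evT_ext {j : Dual2.IdealsIn T} {M : ModuleCat.{u} A} {f g : qT T j ⟶ M}
    (h : f (oneT T j) = g (oneT T j)) : f = g := by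
  apply ModuleCat.hom_ext
  apply Submodule.linearMap_qext
  exact LinearMap.ext_ring h

variable (W : DRing.Cx A) {K : Dual.D A} (e : DerivedCategory.Q.obj W ≅ K) (i : ℤ)
variable {V : Type v} [AddCommGroup V] [Module A V]
variable (κ : ∀ j : Dual2.IdealsIn T,
  ((DerivedCategory.singleFunctor (ModuleCat.{u} A) 0).obj (qT T j) ⟶ K⟦i⟧) →ₗ[A] V)

/-- A compatible jointly bijective family out of `Hom(A/J, K[i])`. -/
structure IsColimK : Prop where
  w : ∀ (j j' : Dual2.IdealsIn T) (f : j' ⟶ j)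
    (φ : (DerivedCategory.singleFunctor (ModuleCat.{u} A) 0).obj (qT T j) ⟶ K⟦i⟧),
    κ j' ((DerivedCategory.singleFunctor (ModuleCat.{u} A) 0).map
      ((localCohomology.ringModIdeals (Dual2.idealsInDiagram T)).map f) ≫ φ) = κ j φ
  surj : ∀ v, ∃ j φ, κ j φ = v
  zero : ∀ j φ, κ j φ = 0 → ∃ (j' : Dual2.IdealsIn T) (f : j' ⟶ j),
    (DerivedCategory.singleFunctor (ModuleCat.{u} A) 0).map
      ((localCohomology.ringModIdeals (Dual2.idealsInDiagram T)).map f) ≫ φ = 0

theorem evT_d (j : Dual2.IdealsIn T) (x : W.X i) (hx : ∀ a ∈ j.obj, a • x = 0) (hd : W.d i (i + 1) x = 0) :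
    evT T j x hx ≫ W.d i (i + 1) = 0 :=
  evT_ext T ((congrArg (W.d i (i + 1)) (evT_one T j x hx)).trans hd)

/-- The class of a torsion cycle at a level. -/
def clT (j : Dual2.IdealsIn T) (x : W.X i) (hx : ∀ a ∈ j.obj, a • x = 0) (hd : W.d i (i + 1) x = 0) : V :=
  κ j (el (evT T j x hx) (evT_d T W i j x hx hd) ≫ (shiftFunctor (Dual.D A) i).map e.hom)

variable {κ} (hκ : IsColimK T i κ)

include hκ in
theorem clT_le {j j' : Dual2.IdealsIn T} (f : j' ⟶ j) (x : W.X i) (hx : ∀ a ∈ j.obj, a • x = 0)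
    (hx' : ∀ a ∈ j'.obj, a • x = 0) (hd : W.d i (i + 1) x = 0) :
    clT T W e i κ j' x hx' hd = clT T W e i κ j x hx hd := by
  unfold clT
  refine Eq.trans ?_ (hκ.w j j' f _)
  refine congrArg (κ j') ?_
  refine Eq.trans ?_ (show (DerivedCategory.Q.map ((CochainComplex.singleFunctor (ModuleCat.{u} A) 0).map
      ((localCohomology.ringModIdeals (Dual2.idealsInDiagram T)).map f)) ≫
      el (evT T j x hx) (evT_d T W i j x hx hd)) ≫ (shiftFunctor (Dual.D A) i).map e.hom = _ from Category.assoc _ _ _)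
  refine congrArg (· ≫ _) ?_
  refine (el_congr ?_ _).trans (el_precomp _ _ _)
  exact evT_ext T ((evT_one T j' x _).trans (evT_one T j x hx).symm)

include hκ in
theorem clT_indep (j j' : Dual2.IdealsIn T) (x : W.X i) (hx : ∀ a ∈ j.obj, a • x = 0)
    (hx' : ∀ a ∈ j'.obj, a • x = 0) (hd : W.d i (i + 1) x = 0) :
    clT T W e i κ j x hx hd = clT T W e i κ j' x hx' hd := by
  let k := mkI T (j.obj ⊓ j'.obj) (Ok.inf j.property j'.property)
  rw [← clT_le T W e i hκ (leI T inf_le_left : k ⟶ j) x hx (fun a ha => hx a ha.1) hd,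
    ← clT_le T W e i hκ (leI T inf_le_right : k ⟶ j') x hx' (fun a ha => hx a ha.1) hd]

/-- An index killing a `T`-torsion cycle. -/
def lev (x : TCy T W i) : Dual2.IdealsIn T := mkI T x.2.1.choose x.2.1.choose_spec.1

theorem lev_spec (x : TCy T W i) : ∀ a ∈ (lev T W i x).obj, a • x.1 = 0 := x.2.1.choose_spec.2

theorem d_of_TCy (x : TCy T W i) : W.d i (i + 1) x.1 = 0 := (mem_Cy W rfl).1 x.2.2

/-- The class of a torsion cycle. -/
def toT : TCy T W i →ₗ[A] V where
  toFun x := clT T W e i κ (lev T W i x) x.1 (lev_spec T W i x) (d_of_TCy T W i x)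
  map_add' x y := by
    let k := mkI T ((lev T W i x).obj ⊓ (lev T W i y).obj) (Ok.inf (lev T W i x).property (lev T W i y).property)
    have hx : ∀ a ∈ k.obj, a • x.1 = 0 := fun a ha => lev_spec T W i x a ha.1
    have hy : ∀ a ∈ k.obj, a • y.1 = 0 := fun a ha => lev_spec T W i y a ha.2
    have hxy : ∀ a ∈ k.obj, a • (x + y : TCy T W i).1 = 0 := fun a ha => by
      rw [Submodule.coe_add, smul_add, hx a ha, hy a ha, add_zero]
    rw [clT_indep T W e i hκ _ k x.1 _ hx, clT_indep T W e i hκ _ k y.1 _ hy, clT_indep T W e i hκ _ k _ _ hxy]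
    unfold clT
    rw [← map_add]
    refine congrArg (κ k) ?_
    refine Eq.trans ?_ (Preadditive.add_comp _ _ _ _ _ _)
    refine congrArg (· ≫ _) ?_
    refine (el_congr ?_ _).trans (el_add _ _ _ _)
    refine evT_ext T ((evT_one T _ _ _).trans ?_)
    exact (congrArg₂ (· + ·) (evT_one T k x.1 hx) (evT_one T k y.1 hy)).symm
  map_smul' r x := by
    have hrx : ∀ a ∈ (lev T W i x).obj, a • (r • x : TCy T W i).1 = 0 := fun a ha => by
      rw [Submodule.coe_smul, smul_comm, lev_spec T W i x a ha, smul_zero]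
    rw [clT_indep T W e i hκ _ (lev T W i x) (r • x : TCy T W i).1 _ hrx, RingHom.id_apply]
    unfold clT
    rw [← map_smul]
    refine congrArg (κ (lev T W i x)) ?_
    refine Eq.trans ?_ (Linear.smul_comp _ _ _ _ _ _)
    refine congrArg (· ≫ _) ?_
    refine (el_congr ?_ _).trans (el_smul _ _ _)
    refine evT_ext T ((evT_one T _ _ _).trans ?_)
    exact (congrArg (r • ·) (evT_one T _ x.1 (lev_spec T W i x))).symm

theorem toT_eq (x : TCy T W i) (j : Dual2.IdealsIn T) (hx : ∀ a ∈ j.obj, a • x.1 = 0) :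
    toT T W e i hκ x = clT T W e i κ j x.1 hx (d_of_TCy T W i x) :=
  clT_indep T W e i hκ _ _ _ _ _ _

variable [W.IsKInjective]

theorem toT_surjective : Function.Surjective (toT T W e i hκ) := fun v => by
  obtain ⟨j, φ, rfl⟩ := hκ.surj v
  obtain ⟨f, hf, hφ⟩ := el_surjective (φ ≫ (shiftFunctor (Dual.D A) i).map e.inv)
  let x : W.X i := f (oneT T j)
  have hx : ∀ a ∈ j.obj, a • x = 0 := fun a ha => by
    rw [← map_smul]
    exact (congrArg f (smul_oneT T j ha)).trans (map_zero f.hom)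
  have hd : W.d i (i + 1) x = 0 := congrArg (fun t : qT T j ⟶ W.X (i + 1) => t _) hf
  refine ⟨⟨x, ⟨j.obj, j.property, hx⟩, (mem_Cy W rfl).2 hd⟩, (toT_eq T W e i hκ _ j hx).trans ?_⟩
  unfold clT
  refine congrArg (κ j) ?_
  rw [el_congr (evT_ext T (f := evT T j x hx) (g := f) (evT_one T j x hx)), hφ]
  refine (Category.assoc _ _ _).trans ?_
  refine (congrArg (_ ≫ ·) (((shiftFunctor (Dual.D A) i).mapIso e).inv_hom_id)).trans ?_
  exact Category.comp_id _

theorem toT_eq_zero_iff (x : TCy T W i) : toT T W e i hκ x = 0 ↔ x.1 ∈ TBd T W i := by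
  constructor
  · intro h
    obtain ⟨j', f, hf⟩ := hκ.zero _ _ h
    let g : qT T j' ⟶ qT T (lev T W i x) := (localCohomology.ringModIdeals (Dual2.idealsInDiagram T)).map f
    have h0 : el (g ≫ evT T _ x.1 (lev_spec T W i x))
        (by rw [Category.assoc, evT_d T W i (lev T W i x) x.1 (lev_spec T W i x) (d_of_TCy T W i x), comp_zero]) = 0 := by
      rw [el_precomp]
      rw [← cancel_mono ((shiftFunctor (Dual.D A) i).map e.hom), zero_comp, Category.assoc]
      exact hf
    obtain ⟨t, ht⟩ := (el_eq_zero_iff _ _).1 h0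
    refine (mem_TBd T W (j := i - 1) (by omega)).2 ⟨t (oneT T j'), ⟨j'.obj, j'.property, fun a ha => ?_⟩, ?_⟩
    · rw [← map_smul]
      exact (congrArg t (smul_oneT T j' ha)).trans (map_zero t.hom)
    · refine (congrArg (fun s : qT T j' ⟶ W.X i => s (oneT T j')) ht).trans ?_
      exact evT_one T (lev T W i x) x.1 (lev_spec T W i x)
  · intro h
    obtain ⟨y, ⟨J, hJ, hy⟩, hd⟩ := (mem_TBd T W (j := i - 1) (by omega)).1 h
    have hx : ∀ a ∈ (mkI T J hJ).obj, a • x.1 = 0 := fun a ha => by rw [← hd, ← map_smul, hy a ha, map_zero]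
    rw [toT_eq T W e i hκ x _ hx]
    unfold clT
    rw [(el_eq_zero_iff _ _).2 ⟨evT T (mkI T J hJ) y hy, evT_ext T ?_⟩]
    · erw [zero_comp, map_zero]
    · exact ((congrArg (W.d (i - 1) i) (evT_one T _ y hy)).trans hd).trans (evT_one T _ _ hx).symm

include e hκ in
theorem finite_iff [IsNoetherianRing A] : Module.Finite A V ↔ FinT T W i := by
  constructor
  · intro h
    obtain ⟨S, hS⟩ := h.fg_top
    choose l hl using fun s : S => toT_surjective T W e i hκ s.1
    refine ⟨Submodule.span A (Set.range fun s : S => (l s).1), Submodule.fg_span (Set.finite_range _),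
      Submodule.span_le.2 (by rintro _ ⟨s, rfl⟩; exact (l s).2), fun x hx => ?_⟩
    have hmem : toT T W e i hκ ⟨x, hx⟩ ∈ Submodule.span A (S : Set V) := by rw [hS]; trivial
    rw [Submodule.mem_span_finset'] at hmem
    obtain ⟨c, hc⟩ := hmem
    let n : TCy T W i := ∑ s : S, c s • l s
    have h0 : toT T W e i hκ (⟨x, hx⟩ - n) = 0 := by
      rw [map_sub, sub_eq_zero]
      simp only [n, map_sum, map_smul, hl]
      exact hc.symm
    have hn : n.1 ∈ Submodule.span A (Set.range fun s : S => (l s).1) := by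
      simp only [n, Submodule.coe_sum, Submodule.coe_smul]
      exact Submodule.sum_smul_mem _ _ fun s _ => Submodule.subset_span ⟨s, rfl⟩
    rw [show x = n.1 + ((⟨x, hx⟩ : TCy T W i) - n).1 by simp]
    exact Submodule.add_mem_sup hn ((toT_eq_zero_iff T W e i hκ _).1 h0)
  · rintro ⟨N, hN, hNc, hNs⟩
    have : Module.Finite A N := Module.Finite.iff_fg.2 hN
    refine Module.Finite.of_surjective ((toT T W e i hκ).comp (Submodule.inclusion hNc)) fun v => ?_
    obtain ⟨x, rfl⟩ := toT_surjective T W e i hκ v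
    obtain ⟨n, hn, r, hr, hnr⟩ := Submodule.mem_sup.1 (hNs x.2)
    refine ⟨⟨n, hn⟩, ?_⟩
    rw [eq_comm, ← sub_eq_zero, LinearMap.comp_apply, ← map_sub, toT_eq_zero_iff]
    show x.1 - n ∈ _
    rw [← hnr, add_sub_cancel_left]
    exact hr

include e hκ in
theorem annT_iff (J : Ideal A) : AnnT T W J i ↔ ∀ a ∈ J, ∀ v : V, a • v = 0 := by
  constructor
  · intro h a ha v
    obtain ⟨x, rfl⟩ := toT_surjective T W e i hκ v
    rw [← map_smul, toT_eq_zero_iff]
    exact h x.1 x.2 a ha
  · intro h x hx a ha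
    exact (toT_eq_zero_iff T W e i hκ (a • ⟨x, hx⟩)).1 ((map_smul _ _ _).trans (h a ha _))

end Groth.Agent.HTFin27
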